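import Cfsg.Agent.Char.Irr
import Cfsg.Agent.Char.Induced

/-!
Further facts on ordinary characters: permutation lemma, class multiplication, kernels.
-/

set_option autoImplicit false
set_option linter.all false

open scoped ComplexConjugate
open Representation Module

namespace Cfsg.Agent.CharLead

open Cfsg.Agent.Char

universe u v

variable {G : Type u} [Group G]

theorem classFn_eq_of_isConj {f : G → ℂ} (hf : Cfsg.IsClassFunction G f) {g h : G}
    (hgh : IsConj g h) : f g = f h := by
  obtain ⟨y, rfl⟩ := isConj_iff.1 hgh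
  exact (hf g y).symm

theorem irr_eq_of_isConj (χ : Cfsg.IrrCharacter G) {g h : G} (hgh : IsConj g h) :
    (χ : G → ℂ) g = (χ : G → ℂ) h :=
  classFn_eq_of_isConj (irr_isClassFunction χ) hgh

theorem card_class_mul_card_centralizer [Finite G] (g : G) :
    Nat.card {x : G // IsConj g x} * Nat.card (Subgroup.centralizer ({g} : Set G))
      = Nat.card G := by
  have h : Nat.card {x : G // IsConj g x} = (Subgroup.centralizer ({g} : Set G)).index := by
    classical
    haveI := Fintype.ofFinite G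
    rw [← card_conj_set g, Nat.card_eq_fintype_card, Fintype.card_subtype]
  rw [h, Subgroup.index_mul_card]

theorem card_centralizer_eq_of_isConj [Finite G] {g h : G} (hgh : IsConj g h) :
    Nat.card (Subgroup.centralizer ({g} : Set G))
      = Nat.card (Subgroup.centralizer ({h} : Set G)) := by
  have h1 : Nat.card {x : G // IsConj g x} = Nat.card {x : G // IsConj h x} :=
    Nat.card_congr (Equiv.subtypeEquivRight fun x => ⟨hgh.symm.trans, hgh.trans⟩)
  have h2 := card_class_mul_card_centralizer g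
  rw [h1, ← card_class_mul_card_centralizer h] at h2
  haveI : Nonempty {x : G // IsConj h x} := ⟨⟨h, IsConj.refl h⟩⟩
  exact Nat.eq_of_mul_eq_mul_left Nat.card_pos h2

/-- Brauer's permutation lemma. -/
theorem card_fixed_eq [Finite G] (σ : Cfsg.IrrCharacter G → Cfsg.IrrCharacter G)
    (τ : ConjClasses G → ConjClasses G) (hτ : Function.Bijective τ)
    (h : ∀ (χ : Cfsg.IrrCharacter G) (g g' : G), ConjClasses.mk g' = τ (ConjClasses.mk g) →
      (σ χ : G → ℂ) g' = (χ : G → ℂ) g) :
    Nat.card {χ : Cfsg.IrrCharacter G // σ χ = χ} = Nat.card {C : ConjClasses G // τ C = C} := by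
  classical
  haveI := Fintype.ofFinite G
  haveI : Finite (ConjClasses G) := Finite.of_surjective _ ConjClasses.mk_surjective
  haveI := Fintype.ofFinite (ConjClasses G)
  have hlhs : (Nat.card {χ : Cfsg.IrrCharacter G // σ χ = χ} : ℂ)
      = ∑ χ : Cfsg.IrrCharacter G, Cfsg.classInner (σ χ : G → ℂ) (χ : G → ℂ) := by
    simp only [classInner_irr, Finset.sum_boole]
    rw [Nat.card_eq_fintype_card, Fintype.card_subtype]
  have key : ∀ g : G, ∑ χ : Cfsg.IrrCharacter G, (σ χ : G → ℂ) g * conj ((χ : G → ℂ) g)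
      = if τ (ConjClasses.mk g) = ConjClasses.mk g
        then (Nat.card (Subgroup.centralizer ({g} : Set G)) : ℂ) else 0 := by
    intro g
    obtain ⟨C, hC⟩ := hτ.2 (ConjClasses.mk g)
    obtain ⟨g0, rfl⟩ := ConjClasses.mk_surjective C
    have hval : ∀ χ : Cfsg.IrrCharacter G, (σ χ : G → ℂ) g = (χ : G → ℂ) g0 := fun χ =>
      h χ g0 g hC.symm
    simp only [hval, sum_irr_mul_conj]
    by_cases hg : IsConj g0 g
    · have e : ConjClasses.mk g0 = ConjClasses.mk g := ConjClasses.mk_eq_mk_iff_isConj.2 hg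
      rw [if_pos hg, if_pos (by rw [← e]; exact hC.trans e.symm),
        card_centralizer_eq_of_isConj hg]
    · rw [if_neg hg, if_neg]
      intro e
      exact hg (ConjClasses.mk_eq_mk_iff_isConj.1 (hτ.1 (hC.trans e.symm)))
  have hsum : ∑ χ : Cfsg.IrrCharacter G, Cfsg.classInner (σ χ : G → ℂ) (χ : G → ℂ)
      = (Nat.card G : ℂ)⁻¹ * ∑ g : G, if τ (ConjClasses.mk g) = ConjClasses.mk g
        then (Nat.card (Subgroup.centralizer ({g} : Set G)) : ℂ) else 0 := by
    simp only [Cfsg.classInner, ← Finset.mul_sum]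
    rw [Finset.sum_comm]
    simp only [key]
  have hrhs : ∑ g : G, (if τ (ConjClasses.mk g) = ConjClasses.mk g
        then (Nat.card (Subgroup.centralizer ({g} : Set G)) : ℂ) else 0)
      = (Nat.card G : ℂ) * (Nat.card {C : ConjClasses G // τ C = C} : ℂ) := by
    rw [← Finset.sum_fiberwise_of_maps_to (g := ConjClasses.mk) (t := Finset.univ)
      (fun g _ => Finset.mem_univ _)]
    have hfib : ∀ C : ConjClasses G, ∑ g ∈ Finset.univ.filter (fun g : G => ConjClasses.mk g = C),
        (if τ (ConjClasses.mk g) = ConjClasses.mk g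
          then (Nat.card (Subgroup.centralizer ({g} : Set G)) : ℂ) else 0)
        = if τ C = C then (Nat.card G : ℂ) else 0 := by
      intro C
      obtain ⟨c, rfl⟩ := ConjClasses.mk_surjective C
      have hg : ∀ g ∈ Finset.univ.filter (fun g : G => ConjClasses.mk g = ConjClasses.mk c),
          (if τ (ConjClasses.mk g) = ConjClasses.mk g
            then (Nat.card (Subgroup.centralizer ({g} : Set G)) : ℂ) else 0)
          = if τ (ConjClasses.mk c) = ConjClasses.mk c
            then (Nat.card (Subgroup.centralizer ({c} : Set G)) : ℂ) else 0 := by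
        intro g hg
        rw [Finset.mem_filter_univ] at hg
        rw [hg, card_centralizer_eq_of_isConj (ConjClasses.mk_eq_mk_iff_isConj.1 hg)]
      rw [Finset.sum_congr rfl hg, Finset.sum_const, nsmul_eq_mul]
      split_ifs with hc
      · rw [← card_class_mul_card_centralizer c, Nat.cast_mul]
        congr 2
        rw [Nat.card_eq_fintype_card, Fintype.card_subtype]
        congr 1
        ext x
        simp only [Finset.mem_filter_univ, ConjClasses.mk_eq_mk_iff_isConj]
        exact isConj_comm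
      · rw [mul_zero]
    rw [Finset.sum_congr rfl fun C _ => hfib C, ← Finset.sum_filter, Finset.sum_const,
      nsmul_eq_mul, mul_comm, Nat.card_eq_fintype_card (α := {C : ConjClasses G // τ C = C}),
      Fintype.card_subtype]
  rw [hrhs] at hsum
  rw [hsum, ← mul_assoc, inv_mul_cancel₀ (by exact_mod_cast Nat.card_pos.ne'), one_mul] at hlhs
  exact_mod_cast hlhs

/-- Class multiplication: sum of `χ (x * y)` over two classes. -/
theorem sum_class_mul [Fintype G] [DecidableRel (IsConj : G → G → Prop)]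
    (χ : Cfsg.IrrCharacter G) (a b : G) :
    ∑ x ∈ Finset.univ.filter (IsConj a), ∑ y ∈ Finset.univ.filter (IsConj b), (χ : G → ℂ) (x * y)
      = ((Finset.univ.filter (IsConj a)).card : ℂ) * ((Finset.univ.filter (IsConj b)).card : ℂ)
        * (χ : G → ℂ) a * (χ : G → ℂ) b / (χ : G → ℂ) 1 := by
  obtain ⟨n, ρ, hρ, he⟩ := χ.2
  set S := Finset.univ.filter (IsConj a) with hS
  let T : Module.End ℂ (Fin n → ℂ) := ∑ x ∈ S, ρ x
  have hcomm : ∀ y, T * ρ y = ρ y * T := by
    intro y
    simp only [T, Finset.sum_mul, Finset.mul_sum, ← map_mul]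
    refine Finset.sum_nbij' (fun x => y⁻¹ * x * y) (fun x => y * x * y⁻¹) ?_ ?_ ?_ ?_ ?_
    · intro x hx
      simp only [S, Finset.mem_filter_univ] at hx ⊢
      exact hx.trans (isConj_iff.2 ⟨y⁻¹, by simp⟩)
    · intro x hx
      simp only [S, Finset.mem_filter_univ] at hx ⊢
      exact hx.trans (isConj_iff.2 ⟨y, rfl⟩)
    · intro x _; simp [mul_assoc]
    · intro x _; simp [mul_assoc]
    · intro x _; simp [mul_assoc]
  obtain ⟨c, hc⟩ := exists_smul_id_of_commute ρ T hcomm
  have hone : (χ : G → ℂ) 1 = n := by rw [← he, Representation.char_one]; simp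
  have htr : LinearMap.trace ℂ _ T = (S.card : ℂ) * (χ : G → ℂ) a := by
    simp only [T, map_sum]
    rw [← nsmul_eq_mul, ← Finset.sum_const]
    refine Finset.sum_congr rfl fun x hx => ?_
    rw [Finset.mem_filter_univ] at hx
    rw [irr_eq_of_isConj χ hx, ← he]
    rfl
  have hcn : c * (n : ℂ) = (S.card : ℂ) * (χ : G → ℂ) a := by
    rw [← htr, hc, map_smul, LinearMap.trace_id]
    simp
  have hy : ∀ y, ∑ x ∈ S, (χ : G → ℂ) (x * y) = c * (χ : G → ℂ) y := by
    intro y
    have : ∑ x ∈ S, (χ : G → ℂ) (x * y) = LinearMap.trace ℂ _ (T * ρ y) := by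
      simp only [T, Finset.sum_mul, map_sum, ← map_mul]
      rw [← he]
      rfl
    rw [this, hc, ← he]
    simp [Representation.character, smul_mul_assoc, Module.End.mul_eq_comp]
  rw [Finset.sum_comm]
  simp only [hy]
  have hb : ∀ y ∈ Finset.univ.filter (IsConj b), c * (χ : G → ℂ) y = c * (χ : G → ℂ) b := by
    intro y hy'
    rw [Finset.mem_filter_univ] at hy'
    rw [irr_eq_of_isConj χ hy']
  rw [Finset.sum_congr rfl hb, Finset.sum_const, nsmul_eq_mul,
    eq_div_iff (irr_one_ne_zero χ), hone]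
  linear_combination ((Finset.univ.filter (IsConj b)).card : ℂ) * (χ : G → ℂ) b * hcn

open scoped Classical in
/-- Number of ways to write `c` as a product from two classes. -/
theorem classMul_formula [Finite G] (a b c : G) :
    (Nat.card {p : G × G // IsConj a p.1 ∧ IsConj b p.2 ∧ p.1 * p.2 = c} : ℂ)
      = (Nat.card {x : G // IsConj a x} : ℂ) * (Nat.card {x : G // IsConj b x} : ℂ)
        / (Nat.card G : ℂ) * ∑ χ : Cfsg.IrrCharacter G,
          (χ : G → ℂ) a * (χ : G → ℂ) b * conj ((χ : G → ℂ) c) / (χ : G → ℂ) 1 := by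
  haveI := Fintype.ofFinite G
  set A := Finset.univ.filter (IsConj a)
  set B := Finset.univ.filter (IsConj b)
  let N : G → ℂ := fun z => ∑ x ∈ A, ∑ y ∈ B, if x * y = z then (1 : ℂ) else 0
  have hN : (Nat.card {p : G × G // IsConj a p.1 ∧ IsConj b p.2 ∧ p.1 * p.2 = c} : ℂ) = N c := by
    rw [Nat.card_eq_fintype_card, Fintype.card_subtype]
    simp only [N]
    rw [← Finset.sum_product', Finset.sum_boole]
    congr 2
    ext p
    simp [A, B, and_assoc]
  have hcf : Cfsg.IsClassFunction G N := by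
    intro z h
    simp only [N]
    refine Finset.sum_nbij' (fun x => h⁻¹ * x * h) (fun x => h * x * h⁻¹) ?_ ?_ ?_ ?_ ?_
    · intro x hx
      simp only [A, Finset.mem_filter_univ] at hx ⊢
      exact hx.trans (isConj_iff.2 ⟨h⁻¹, by simp⟩)
    · intro x hx
      simp only [A, Finset.mem_filter_univ] at hx ⊢
      exact hx.trans (isConj_iff.2 ⟨h, rfl⟩)
    · intro x _; simp [mul_assoc]
    · intro x _; simp [mul_assoc]
    intro x _
    refine Finset.sum_nbij' (fun x => h⁻¹ * x * h) (fun x => h * x * h⁻¹) ?_ ?_ ?_ ?_ ?_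
    · intro y hy
      simp only [B, Finset.mem_filter_univ] at hy ⊢
      exact hy.trans (isConj_iff.2 ⟨h⁻¹, by simp⟩)
    · intro y hy
      simp only [B, Finset.mem_filter_univ] at hy ⊢
      exact hy.trans (isConj_iff.2 ⟨h, rfl⟩)
    · intro y _; simp [mul_assoc]
    · intro y _; simp [mul_assoc]
    · intro y _
      refine if_congr ⟨fun e => ?_, fun e => ?_⟩ rfl rfl
      · calc h⁻¹ * x * h * (h⁻¹ * y * h) = h⁻¹ * (x * y) * h := by group
          _ = z := by rw [e]; group
      · calc x * y = h * (h⁻¹ * x * h * (h⁻¹ * y * h)) * h⁻¹ := by group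
          _ = _ := by rw [e]
  have hinner : ∀ χ : Cfsg.IrrCharacter G, Cfsg.classInner N (χ : G → ℂ)
      = (Nat.card G : ℂ)⁻¹ * conj ((A.card : ℂ) * (B.card : ℂ)
        * (χ : G → ℂ) a * (χ : G → ℂ) b / (χ : G → ℂ) 1) := by
    intro χ
    rw [← sum_class_mul χ a b]
    simp only [Cfsg.classInner, N, map_sum, Finset.sum_mul]
    congr 1
    rw [Finset.sum_comm]
    refine Finset.sum_congr rfl fun x _ => ?_
    rw [Finset.sum_comm]
    refine Finset.sum_congr rfl fun y _ => ?_
    simp only [ite_mul, one_mul, zero_mul, Finset.sum_ite_eq, Finset.mem_univ, if_true]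
  have hexp := congrFun (classFunction_expand hcf) c
  simp only [Finset.sum_apply, Pi.smul_apply, smul_eq_mul, hinner] at hexp
  have hreal : conj (N c) = N c := by simp [N, map_sum, apply_ite conj]
  have hca : (Nat.card {x : G // IsConj a x}) = A.card := by
    rw [Nat.card_eq_fintype_card, Fintype.card_subtype]
  have hcb : (Nat.card {x : G // IsConj b x}) = B.card := by
    rw [Nat.card_eq_fintype_card, Fintype.card_subtype]
  rw [hN, hca, hcb, ← hreal, hexp, map_sum, Finset.mul_sum]
  refine Finset.sum_congr rfl fun χ _ => ?_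
  simp only [map_mul, map_inv₀, Complex.conj_conj, Complex.conj_natCast]
  ring

theorem commutator_iff [Finite G] (g : G) :
    (∃ a b : G, g = a * b * a⁻¹ * b⁻¹) ↔
      ∑ χ : Cfsg.IrrCharacter G, (χ : G → ℂ) g / (χ : G → ℂ) 1 ≠ 0 := by
  classical
  haveI := Fintype.ofFinite G
  let N : G → ℕ := fun a => Nat.card {p : G × G // IsConj a p.1 ∧ IsConj a⁻¹ p.2 ∧ p.1 * p.2 = g}
  let w : G → ℕ := fun a => Nat.card (Subgroup.centralizer ({a} : Set G))
  have hinv : ∀ a : G, Nat.card {x : G // IsConj a⁻¹ x} = Nat.card {x : G // IsConj a x} := by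
    intro a
    refine Nat.card_congr ((Equiv.inv G).subtypeEquiv fun x => ?_)
    simp only [Equiv.inv_apply, isConj_iff]
    refine exists_congr fun y => ⟨fun e => ?_, fun e => ?_⟩
    · rw [← e]; group
    · rw [← inv_inv x, ← e]; group
  have hterm : ∀ a : G, (N a : ℂ) * w a
      = (Nat.card {x : G // IsConj a x} : ℂ) * ∑ χ : Cfsg.IrrCharacter G,
          (χ : G → ℂ) a * conj ((χ : G → ℂ) a) * conj ((χ : G → ℂ) g) / (χ : G → ℂ) 1 := by
    intro a
    have h0 : (Nat.card G : ℂ) ≠ 0 := by exact_mod_cast Nat.card_pos.ne'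
    have h1 : (Nat.card {x : G // IsConj a x} : ℂ) * (w a : ℂ) = Nat.card G := by
      exact_mod_cast card_class_mul_card_centralizer a
    simp only [N]
    rw [classMul_formula, hinv]
    simp only [irr_apply_inv]
    generalize (∑ χ : Cfsg.IrrCharacter G,
        (χ : G → ℂ) a * conj ((χ : G → ℂ) a) * conj ((χ : G → ℂ) g) / (χ : G → ℂ) 1) = S
    generalize (Nat.card {x : G // IsConj a x} : ℂ) = A at h1 ⊢
    calc A * A / (Nat.card G : ℂ) * S * (w a : ℂ)
        = A * S * (A * (w a : ℂ) / (Nat.card G : ℂ)) := by ring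
      _ = A * S := by rw [h1, div_self h0, mul_one]
  have hsum : (∑ a : G, (N a : ℂ) * w a * w a)
      = (Nat.card G : ℂ) ^ 2 * conj (∑ χ : Cfsg.IrrCharacter G, (χ : G → ℂ) g / (χ : G → ℂ) 1) := by
    have h1 : ∀ a : G, (N a : ℂ) * w a * w a = (Nat.card G : ℂ) * ∑ χ : Cfsg.IrrCharacter G,
        (χ : G → ℂ) a * conj ((χ : G → ℂ) a) * conj ((χ : G → ℂ) g) / (χ : G → ℂ) 1 := by
      intro a
      rw [hterm, mul_right_comm]
      congr 1
      exact_mod_cast card_class_mul_card_centralizer a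
    simp only [h1, ← Finset.mul_sum]
    rw [sq, mul_assoc]
    congr 1
    rw [Finset.sum_comm, map_sum, Finset.mul_sum]
    refine Finset.sum_congr rfl fun χ _ => ?_
    have hχ := classInner_irr_self χ
    simp only [Cfsg.classInner] at hχ
    have h0 : (Nat.card G : ℂ) ≠ 0 := by exact_mod_cast Nat.card_pos.ne'
    rw [inv_mul_eq_one₀ h0] at hχ
    obtain ⟨d, -, hd⟩ := irr_apply_one χ
    rw [map_div₀, hd, Complex.conj_natCast, mul_div_assoc', hχ, Finset.sum_mul, Finset.sum_div]
  have hne : (∑ χ : Cfsg.IrrCharacter G, (χ : G → ℂ) g / (χ : G → ℂ) 1) ≠ 0 ↔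
      ∑ a : G, N a * w a * w a ≠ 0 := by
    have h0 : (Nat.card G : ℂ) ^ 2 ≠ 0 := pow_ne_zero _ (by exact_mod_cast Nat.card_pos.ne')
    have : ((∑ a : G, N a * w a * w a : ℕ) : ℂ) = (Nat.card G : ℂ) ^ 2
        * conj (∑ χ : Cfsg.IrrCharacter G, (χ : G → ℂ) g / (χ : G → ℂ) 1) := by
      push_cast
      exact hsum
    rw [← Nat.cast_ne_zero (R := ℂ), this, mul_ne_zero_iff, map_ne_zero]
    exact ⟨fun h => ⟨h0, h⟩, fun h => h.2⟩
  rw [hne, ne_eq, Finset.sum_eq_zero_iff]
  push Not
  constructor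
  · rintro ⟨a, b, rfl⟩
    refine ⟨a, Finset.mem_univ _, mul_ne_zero (mul_ne_zero ?_ Nat.card_pos.ne') Nat.card_pos.ne'⟩
    haveI : Nonempty {p : G × G // IsConj a p.1 ∧ IsConj a⁻¹ p.2
        ∧ p.1 * p.2 = a * b * a⁻¹ * b⁻¹} :=
      ⟨⟨(a, b * a⁻¹ * b⁻¹), IsConj.refl a, isConj_iff.2 ⟨b, rfl⟩, by simp [mul_assoc]⟩⟩
    exact Nat.card_pos.ne'
  · rintro ⟨a, -, ha⟩
    have hNa : N a ≠ 0 := fun h => ha (by simp [h])
    obtain ⟨⟨⟨x, y⟩, hx, hy, hxy⟩⟩ := (Nat.card_ne_zero.1 hNa).1
    dsimp only at hx hy hxy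
    have : IsConj x⁻¹ y := by
      obtain ⟨u, hu⟩ := isConj_iff.1 hx
      have : IsConj a⁻¹ x⁻¹ := isConj_iff.2 ⟨u, by rw [← hu]; group⟩
      exact this.symm.trans hy
    obtain ⟨b, hb⟩ := isConj_iff.1 this
    exact ⟨x, b, by rw [← hxy, ← hb]; simp [mul_assoc]⟩

end Cfsg.Agent.CharLead
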